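import Cfsg.Agent.Lib.ClassIndex.TwoLargest
import Cfsg.Agent.Lib.ClassIndex.SylowTwoSizes
import Cfsg.Agent.Lib.CharApp.Burnside
import Cfsg.Agent.Lib.SmallOrders.Basic
import Cfsg.Agent.EqLemmas

/-
Simple groups with three sizes of noncentral classes: elementary tools.

* `Three` : every non-identity element has class size `a`, `b` or `c`
* `cover_false` : two primes cannot between them miss every class size
* `conj_into`, `comm_of_two_primes`
-/

set_option autoImplicit false
set_option linter.unusedSectionVars false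
set_option linter.style.haveILetI false

open Subgroup

namespace Cfsg.Agent.ConjRankThree

open Cfsg.Agent.ClassGraph (sz)

variable {G : Type*} [Group G] [Finite G]

local notation "cent" x:max => Subgroup.centralizer ({x} : Set _)

theorem mem_cent {g x : G} : g ∈ cent x ↔ g * x = x * g := mem_centralizer_singleton_iff

theorem mem_cent_comm {g x : G} : g ∈ cent x ↔ x ∈ cent g := by rw [mem_cent, mem_cent, eq_comm]

theorem mem_cent_commute {g x : G} : g ∈ cent x ↔ Commute g x := mem_cent

theorem self_mem (g : G) : g ∈ cent g := mem_cent.2 rfl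

theorem cent_le_pow (g : G) (i : ℕ) : cent g ≤ cent (g ^ i) := fun _ hy =>
  mem_cent.2 ((show Commute _ g from mem_cent.1 hy).pow_right i).eq

theorem sz_mul_card (g : G) : sz g * Nat.card (cent g) = Nat.card G := by
  rw [mul_comm]; exact card_mul_index _

theorem sz_dvd_card (g : G) : sz g ∣ Nat.card G := index_dvd_card _

theorem sz_dvd_of_le {g h : G} (hle : cent g ≤ cent h) : sz h ∣ sz g := index_dvd_of_le hle

theorem cent_eq_of_sz {g h : G} (hle : cent g ≤ cent h) (hs : sz g = sz h) : cent g = cent h :=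
  TwoLargest.cent_eq_of_le hle hs.le

theorem sz_eq_of_cent {g h : G} (he : cent g = cent h) : sz g = sz h := by
  unfold ClassGraph.sz; rw [he]

theorem sz_conj (x g : G) : sz (x * g * x⁻¹) = sz g := ClassGraph.sz_conj x g

/-- An element of prime order is conjugate into a subgroup of index prime to that prime. -/
theorem conj_into {p : ℕ} (hp : p.Prime) {H : Subgroup G} (hH : ¬ p ∣ H.index) {k : G}
    (hk : ∃ i, orderOf k = p ^ i) : ∃ g : G, g * k * g⁻¹ ∈ H := by
  haveI := Fact.mk hp
  obtain ⟨i, hi⟩ := hk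
  obtain ⟨P0⟩ := (inferInstance : Nonempty (Sylow p H))
  have hPG : ¬ p ∣ ((P0 : Subgroup H).map H.subtype).index := by
    rw [index_map_subtype]
    exact fun h => (hp.dvd_mul.1 h).elim P0.not_dvd_index hH
  let P : Sylow p G := (P0.isPGroup'.map H.subtype).toSylow hPG
  have hkp : IsPGroup p (zpowers k) := IsPGroup.of_card (n := i) (by rw [Nat.card_zpowers, hi])
  obtain ⟨Q, hQ⟩ := hkp.exists_le_sylow
  obtain ⟨g, hg⟩ := MulAction.exists_smul_eq G Q P
  refine ⟨g, ?_⟩
  have hle : (P : Subgroup G) ≤ H := by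
    show (P0 : Subgroup H).map H.subtype ≤ H
    rintro _ ⟨y, -, rfl⟩
    exact y.2
  refine hle ?_
  have : g * k * g⁻¹ ∈ ((g • Q : Sylow p G) : Subgroup G) := by
    rw [Sylow.coe_subgroup_smul]
    exact ⟨k, hQ (mem_zpowers k), by simp⟩
  rwa [hg] at this

/-- A centraliser containing suitable elements of two prime orders, each having that centraliser
and controlling the elements of coprime order, is abelian. -/
theorem comm_of_two_primes {g₀ u w : G} {r q : ℕ} (hr : r.Prime) (hq : q.Prime) (hrq : r ≠ q)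
    (hku : ∀ k, Commute k u → k ∈ cent g₀ → (orderOf k).Coprime r → k ≠ 1 → cent g₀ ≤ cent k)
    (hkw : ∀ k, Commute k w → k ∈ cent g₀ → (orderOf k).Coprime q → k ≠ 1 → cent g₀ ≤ cent k)
    (hue : cent g₀ ≤ cent u) (hwe : cent g₀ ≤ cent w) :
    ∀ k ∈ cent g₀, cent g₀ ≤ cent k := by
  haveI := Fact.mk hr
  intro k hk
  obtain ⟨k₁, k₂, rfl, -, ⟨i, hi⟩, ⟨j, hj⟩, ⟨e, he⟩, h2⟩ := SylowTwoSizes.exists_parts (r := r) k
  have h1 : k₁ ∈ cent g₀ := hi ▸ pow_mem hk i
  have h1' : k₂ ∈ cent g₀ := hj ▸ pow_mem hk j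
  have hA : cent g₀ ≤ cent k₁ := by
    by_cases h : k₁ = 1
    · intro y _; rw [h]; exact mem_cent.2 (by simp)
    refine hkw k₁ (mem_cent.1 (hwe h1)) h1 ?_ h
    rw [he]
    exact Nat.Coprime.pow_left _ ((Nat.coprime_primes hr hq).2 hrq)
  have hB : cent g₀ ≤ cent k₂ := by
    by_cases h : k₂ = 1
    · intro y _; rw [h]; exact mem_cent.2 (by simp)
    exact hku k₂ (mem_cent.1 (hue h1')) h1' (hr.coprime_iff_not_dvd.2 h2).symm h
  intro y hy
  exact mem_cent.2 ((show Commute y k₁ from mem_cent.1 (hA hy)).mul_right (mem_cent.1 (hB hy))).eq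

variable [IsSimpleGroup G]

theorem center_bot (hG : ¬ IsMulCommutative G) : center G = ⊥ := SmallOrders.center_eq_bot hG

theorem sz_ne_one (hG : ¬ IsMulCommutative G) {g : G} (hg : g ≠ 1) : sz g ≠ 1 := fun h =>
  hg (by simpa [center_bot hG] using TwoLargest.sz_eq_one_iff.1 h)

theorem not_prime_pow (hG : ¬ IsMulCommutative G) {g : G} (hg : g ≠ 1) {p : ℕ} (hp : p.Prime)
    (k : ℕ) : sz g ≠ p ^ k := fun h => by
  have hpr := CharApp.prime_card_of_simple_prime_pow_class p k hp g hg h
  haveI := Fact.mk hpr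
  haveI := isCyclic_of_prime_card (α := G) rfl
  exact hG IsCyclic.isMulCommutative

/-- Every class size of a non-identity element has a prime divisor other than a given one. -/
theorem exists_other_prime (hG : ¬ IsMulCommutative G) {g : G} (hg : g ≠ 1) {r : ℕ} (hr : r.Prime) :
    ∃ q, q.Prime ∧ q ≠ r ∧ q ∣ sz g := by
  by_contra hcon
  push Not at hcon
  have h0 : sz g ≠ 0 := (ClassGraph.sz_pos g).ne'
  refine not_prime_pow hG hg hr (sz g).primeFactorsList.length ?_
  refine Nat.eq_prime_pow_of_unique_prime_dvd h0 ?_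
  intro d hd hdd
  by_contra hne
  exact hcon d hd hne hdd

theorem exists_sz_not_dvd {p : ℕ} (hp : p.Prime) (hdvd : p ∣ Nat.card G) :
    ∃ g : G, g ≠ 1 ∧ (∃ i, orderOf g = p ^ i) ∧ ¬ p ∣ sz g := by
  haveI := Fact.mk hp
  obtain ⟨P⟩ := (inferInstance : Nonempty (Sylow p G))
  haveI : Nontrivial (P : Subgroup G) := (nontrivial_iff_ne_bot _).2 (P.ne_bot_of_dvd_card hdvd)
  obtain ⟨z, hz⟩ := (nontrivial_iff_exists_ne_one _).1 P.isPGroup'.center_nontrivial
  refine ⟨((z : (P : Subgroup G)) : G), fun e => hz.2 (Subtype.ext e), ?_, fun h => P.not_dvd_index ?_⟩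
  · obtain ⟨i, hi⟩ := (IsPGroup.iff_orderOf.1 P.isPGroup') z
    exact ⟨i, by rw [orderOf_coe]; exact hi⟩
  · refine h.trans (index_dvd_of_le fun x hx => mem_cent.2 ?_)
    exact congrArg Subtype.val (mem_center_iff.1 hz.1 ⟨x, hx⟩)

/-- The elements centralising some Sylow `p`-subgroup fill less than half of the group. -/
theorem cover_half (hG : ¬ IsMulCommutative G) {p : ℕ} (hp : p.Prime) (hdvd : p ∣ Nat.card G) :
    2 * {g : G | g ≠ 1 ∧ ¬ p ∣ sz g}.ncard + 4 ≤ Nat.card G := by
  classical
  haveI := Fact.mk hp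
  haveI := Fintype.ofFinite G
  haveI := Fintype.ofFinite (Sylow p G)
  obtain ⟨P⟩ := (inferInstance : Nonempty (Sylow p G))
  set C := centralizer ((P : Subgroup G) : Set G)
  set N := normalizer ((P : Subgroup G) : Set G)
  let U : Sylow p G → Set G := fun Q =>
    (centralizer ((Q : Subgroup G) : Set G) : Set G) \ {1}
  have hsub : {g : G | g ≠ 1 ∧ ¬ p ∣ sz g} ⊆ ⋃ Q ∈ (Finset.univ : Finset (Sylow p G)), U Q := by
    rintro g ⟨hg1, hgp⟩
    obtain ⟨P0⟩ := (inferInstance : Nonempty (Sylow p (cent g : Subgroup G)))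
    have hPG : ¬ p ∣ ((P0 : Subgroup (cent g : Subgroup G)).map (cent g).subtype).index := by
      rw [index_map_subtype]
      exact fun h => (hp.dvd_mul.1 h).elim P0.not_dvd_index hgp
    simp only [Set.mem_iUnion]
    refine ⟨(P0.isPGroup'.map (cent g).subtype).toSylow hPG, Finset.mem_univ _, ?_, hg1⟩
    refine mem_centralizer_iff.2 ?_
    intro y hy
    obtain ⟨z, -, rfl⟩ := (hy : y ∈ (P0 : Subgroup (cent g : Subgroup G)).map (cent g).subtype)
    exact mem_cent.1 z.2
  have hU : ∀ Q : Sylow p G, (U Q).ncard = Nat.card C - 1 := by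
    intro Q
    have hcard : Nat.card (centralizer ((Q : Subgroup G) : Set G)) = Nat.card C := by
      obtain ⟨g, rfl⟩ := MulAction.exists_smul_eq G P Q
      refine (Nat.card_congr ?_).symm
      exact
        { toFun := fun x => ⟨g * x * g⁻¹, mem_centralizer_iff.2 (by
            intro y hy
            rw [SetLike.mem_coe, Sylow.coe_subgroup_smul] at hy
            obtain ⟨w, hw, rfl⟩ := hy
            have e := mem_centralizer_iff.1 x.2 w hw
            show (MulAut.conj g w) * _ = _ * MulAut.conj g w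
            simp only [MulAut.conj_apply]
            calc g * w * g⁻¹ * (g * x * g⁻¹) = g * (w * x) * g⁻¹ := by group
              _ = g * (x * w) * g⁻¹ := by rw [e]
              _ = _ := by group)⟩
          invFun := fun x => ⟨g⁻¹ * x * g, mem_centralizer_iff.2 (by
            intro w hw
            have e := mem_centralizer_iff.1 x.2 (g * w * g⁻¹) (by
              rw [SetLike.mem_coe, Sylow.coe_subgroup_smul]
              exact ⟨w, hw, rfl⟩)
            calc w * (g⁻¹ * x * g) = g⁻¹ * ((g * w * g⁻¹) * x) * g := by group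
              _ = g⁻¹ * (x * (g * w * g⁻¹)) * g := by rw [e]
              _ = _ := by group)⟩
          left_inv := fun x => Subtype.ext (by simp [mul_assoc])
          right_inv := fun x => Subtype.ext (by simp [mul_assoc]) }
    show ((centralizer ((Q : Subgroup G) : Set G) : Set G) \ {1}).ncard = _
    rw [Set.ncard_diff_singleton_of_mem (one_mem (centralizer ((Q : Subgroup G) : Set G))),
      ← Nat.card_coe_set_eq, ← hcard]
    rfl
  have hle : {g : G | g ≠ 1 ∧ ¬ p ∣ sz g}.ncard ≤ Nat.card (Sylow p G) * (Nat.card C - 1) := by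
    refine (Set.ncard_le_ncard hsub (Set.toFinite _)).trans ?_
    refine (Finset.set_ncard_biUnion_le _ _).trans ?_
    simp [hU, Nat.card_eq_fintype_card]
  have hCN : C ≤ N := centralizer_le_normalizer _
  have h2 : 2 * Nat.card C ≤ Nat.card N := by
    have h1 : C.relIndex N * Nat.card C = Nat.card N := by
      rw [← Nat.card_congr (subgroupOfEquivOfLe hCN).toEquiv]
      exact index_mul_card (C.subgroupOf N)
    have h3 : 2 ≤ C.relIndex N := by
      have hne : C.relIndex N ≠ 1 := fun h =>
        SmallOrders.normalizer_not_le_centralizer hG hdvd P (relIndex_eq_one.1 h)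
      have hne0 : C.relIndex N ≠ 0 := index_ne_zero_of_finite
      omega
    calc 2 * Nat.card C ≤ C.relIndex N * Nat.card C := Nat.mul_le_mul_right _ h3
      _ = Nat.card N := h1
  have hs := SmallOrders.card_normalizer_mul_card_sylow P
  have hs2 := SmallOrders.one_lt_card_sylow hG hdvd
  have hC : 1 ≤ Nat.card C := Nat.card_pos
  have hkey : Nat.card (Sylow p G) * (2 * Nat.card C) ≤ Nat.card G :=
    calc _ ≤ Nat.card (Sylow p G) * Nat.card N := Nat.mul_le_mul_left _ h2
      _ = Nat.card G := by rw [mul_comm]; exact hs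
  obtain ⟨c, hc⟩ : ∃ c, Nat.card C = c + 1 := ⟨Nat.card C - 1, by omega⟩
  rw [hc, Nat.add_sub_cancel] at hle
  rw [hc] at hkey
  nlinarith

/-- Two primes cannot between them miss the class sizes of all non-identity elements. -/
theorem cover_false (hG : ¬ IsMulCommutative G) {p q : ℕ} (hp : p.Prime) (hq : q.Prime)
    (hpn : p ∣ Nat.card G) (hqn : q ∣ Nat.card G)
    (hall : ∀ g : G, g ≠ 1 → ¬ p ∣ sz g ∨ ¬ q ∣ sz g) : False := by
  have hsub : ({1}ᶜ : Set G) ⊆ {g : G | g ≠ 1 ∧ ¬ p ∣ sz g} ∪ {g : G | g ≠ 1 ∧ ¬ q ∣ sz g} :=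
    fun g hg => (hall g hg).imp (fun h => ⟨hg, h⟩) fun h => ⟨hg, h⟩
  have h1 := (Set.ncard_le_ncard hsub (Set.toFinite _)).trans (Set.ncard_union_le _ _)
  rw [Set.ncard_compl, Set.ncard_singleton] at h1
  have := cover_half hG hp hpn
  have := cover_half hG hq hqn
  omega

end Cfsg.Agent.ConjRankThree
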