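import Cfsg.Agent.Lib.ConjRankThree.Basic
import Cfsg.Agent.Lib.Char.Perm
import Cfsg.Agent.Lib.Char.Orth
import Cfsg.Agent.Lib.Char.Linear
import Cfsg.Agent.EqLemmas

/-
An abelian subgroup equal to the centraliser of each of its non-identity elements, complementing the
centraliser `C` of an element `x` with coprime orders: in a simple group `x` commutes with none of
its other conjugates.

The constituents of the permutation character on `G ⧸ C` restrict to disjoint sums of orbits of
linear characters; by the isometry each is one orbit or everything, so Burnside's lemma makes it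
vanish at `x`.

* `vanish` : Burnside in a simple group
* `isolated_of_cc_factor`
-/

set_option autoImplicit false
set_option linter.style.haveILetI false
set_option linter.unusedSectionVars false

open Subgroup
open scoped ComplexConjugate

namespace Cfsg.Agent.ConjRankThree

open Cfsg Cfsg.Agent Cfsg.Agent.Char

universe u
variable {G : Type u} [Group G] [Fintype G]

local notation "cent" x:max => Subgroup.centralizer ({x} : Set _)

/-- Burnside: in a non-abelian simple group a non-principal irreducible character vanishes on a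
non-identity element whose class size is prime to its degree. -/
theorem vanish [IsSimpleGroup G] (hG : ¬ IsMulCommutative G) {χ : G → ℂ} (hχ : IsIrrCharacter G χ)
    (hne : χ ≠ 1) {x : G} (hx : x ≠ 1) {d : ℕ} (hd : χ 1 = d) (hco : d.Coprime (cent x).index) :
    χ x = 0 := by
  obtain ⟨n, ρ, hρ, rfl⟩ := hχ
  haveI := hρ
  have hdn : Module.finrank ℂ (Fin n → ℂ) = d := by
    have := hd; rw [Representation.char_one] at this; exact_mod_cast this
  rcases CharApp.zero_or_norm_eq_of_coprime ρ x (hdn ▸ hco) with h | h
  · exact h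
  obtain ⟨ω, hω⟩ := (norm_character_eq_iff ρ x).1 h
  let φ : G →* Module.End ℂ (Fin n → ℂ) := ρ
  rcases φ.toHomUnits.normal_ker.eq_bot_or_eq_top with hk | hk
  · have hinj : Function.Injective φ := fun a b e =>
      (MonoidHom.ker_eq_bot_iff _).mp hk (Units.ext e)
    have hc : x ∈ center G := mem_center_iff.2 fun y => hinj (by
      rw [map_mul, map_mul]
      show ρ y * ρ x = ρ x * ρ y
      rw [hω]
      ext v
      simp)
    rw [SmallOrders.center_eq_bot hG, mem_bot] at hc
    exact absurd hc hx
  · exfalso
    have hall : ∀ y : G, ρ.character y = (d : ℂ) := by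
      intro y
      have hy : y ∈ φ.toHomUnits.ker := hk ▸ mem_top y
      have hy' : ρ y = 1 := congrArg Units.val (MonoidHom.mem_ker.mp hy)
      show LinearMap.trace ℂ _ (ρ y) = _
      rw [hy', LinearMap.trace_one, hdn]
    have hirr := classInner_irr_self (isIrrCharacter_character ρ)
    have hd1 : d = 1 := by
      have h1 : classInner (ρ.character) (ρ.character) = ((d * d : ℕ) : ℂ) := by
        simp only [classInner, hall, map_natCast, Finset.sum_const, Finset.card_univ,
          nsmul_eq_mul, ← Nat.card_eq_fintype_card]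
        have : (Nat.card G : ℂ) ≠ 0 := Nat.cast_ne_zero.2 Nat.card_pos.ne'
        push_cast
        field_simp
      rw [h1] at hirr
      have : d * d = 1 := by exact_mod_cast hirr
      exact (mul_eq_one.1 this).1
    refine hne (funext fun y => ?_)
    rw [hall y, hd1]
    simp

section

variable (A : Subgroup G)

/-- The linear character of `A` moved by an element of the normaliser. -/
noncomputable def cmap (g : normalizer (A : Set G)) (l : IrrCharacter A) : IrrCharacter A :=
  ⟨fun u => (l : A → ℂ) (normalizerMonoidHom A g u),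
    IsIrrCharacter.comp_equiv l.2 (normalizerMonoidHom A g)⟩

theorem cmap_apply (g : normalizer (A : Set G)) (l : IrrCharacter A) (u : A) :
    (cmap A g l : A → ℂ) u = (l : A → ℂ) (normalizerMonoidHom A g u) := rfl

theorem coe_nmh (g : normalizer (A : Set G)) (u : A) :
    ((normalizerMonoidHom A g u : A) : G) = g * u * (g : G)⁻¹ := rfl

theorem cmap_mul (g h : normalizer (A : Set G)) (l : IrrCharacter A) :
    cmap A (g * h) l = cmap A h (cmap A g l) :=
  Subtype.ext (funext fun u => by simp [cmap_apply, map_mul])

theorem cmap_one (l : IrrCharacter A) : cmap A 1 l = l :=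
  Subtype.ext (funext fun u => by simp [cmap_apply])

variable (hA : ∀ u ∈ A, u ≠ 1 → cent u = A)
include hA

variable [Fintype (normalizer (A : Set G))] [Fintype A]

theorem comm_A (a b : A) : a * b = b * a := by
  by_cases ha : (a : G) = 1
  · have : a = 1 := Subtype.ext ha
    rw [this, one_mul, mul_one]
  · exact Subtype.ext (mem_centralizer_singleton_iff.1 ((hA a a.2 ha).symm ▸ b.2)).symm

theorem cmap_eq_self_iff {l : IrrCharacter A} (hl : (l : A → ℂ) ≠ 1) (g : normalizer (A : Set G)) :
    cmap A g l = l ↔ (g : G) ∈ A := by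
  constructor
  · intro h
    by_contra hg
    obtain ⟨hom, hhom⟩ := exists_hom_of_degree_one (IsIrrCharacter.isCharacter l.2)
      (apply_one_eq_one_of_comm (comm_A A hA) l)
    let ψ : A → A := fun u => normalizerMonoidHom A g u * u⁻¹
    have hinj : Function.Injective ψ := by
      intro u v huv
      have e : normalizerMonoidHom A g (u * v⁻¹) = u * v⁻¹ := by
        rw [map_mul, map_inv]
        have h1 : normalizerMonoidHom A g u = normalizerMonoidHom A g v * v⁻¹ * u := by
          have := congrArg (· * u) huv
          simpa [ψ] using this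
        rw [h1, comm_A A hA _ u, mul_assoc u, comm_A A hA _ v⁻¹, mul_assoc v⁻¹,
          mul_inv_cancel, mul_one, comm_A A hA]
      by_contra hne
      have hne1 : ((u * v⁻¹ : A) : G) ≠ 1 := fun e1 => hne (mul_inv_eq_one.1 (Subtype.ext e1))
      have hcg : (g : G) ∈ cent ((u * v⁻¹ : A) : G) := by
        refine mem_centralizer_singleton_iff.2 ?_
        have := congrArg (fun w : A => (w : G) * g) e
        simpa [coe_nmh, mul_assoc] using this
      rw [hA _ (u * v⁻¹).2 hne1] at hcg
      exact hg hcg
    have hsur := Finite.injective_iff_surjective.1 hinj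
    refine hl (funext fun w => ?_)
    obtain ⟨u, rfl⟩ := hsur w
    have e := congrFun (congrArg (fun c : IrrCharacter A => (c : A → ℂ)) h) u
    rw [cmap_apply] at e
    show (l : A → ℂ) (normalizerMonoidHom A g u * u⁻¹) = 1
    rw [← hhom] at e ⊢
    rw [map_mul, e, ← map_mul, mul_inv_cancel, map_one]
  · intro hg
    refine Subtype.ext (funext fun u => ?_)
    rw [cmap_apply]
    refine congrArg (l : A → ℂ) ?_
    refine Subtype.ext ?_
    rw [coe_nmh]
    have := congrArg (Subtype.val : A → G) (comm_A A hA ⟨g, hg⟩ u)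
    simp only [MulMemClass.coe_mul] at this
    rw [this, mul_inv_cancel_right]

theorem card_stab [DecidableEq (IrrCharacter A)] {l : IrrCharacter A} (hl : (l : A → ℂ) ≠ 1) :
    (Finset.univ.filter fun g : normalizer (A : Set G) => cmap A g l = l).card = Nat.card A := by
  classical
  rw [← Fintype.card_subtype, ← Nat.card_eq_fintype_card]
  refine Nat.card_congr
    { toFun := fun g => ⟨((g.1 : normalizer (A : Set G)) : G), (cmap_eq_self_iff A hA hl g.1).1 g.2⟩
      invFun := fun u => ⟨⟨u, le_normalizer u.2⟩, (cmap_eq_self_iff A hA hl _).2 u.2⟩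
      left_inv := fun g => rfl
      right_inv := fun u => rfl }

theorem ind_apply {f : A → ℂ} (hf1 : f 1 = 0) (u : A) :
    indFun A f u = (Nat.card A : ℂ)⁻¹ *
      ∑ g : normalizer (A : Set G), f (normalizerMonoidHom A g u) := by
  classical
  rw [indFun]
  congr 1
  have hout : ∀ y : G, y ∉ normalizer (A : Set G) → extendByZero A f (y⁻¹ * u * y) = 0 := by
    intro y hy
    by_cases hm : y⁻¹ * (u : G) * y ∈ A
    · rw [extendByZero_mem A f hm]
      by_cases h1 : (u : G) = 1
      · rw [← hf1]; congr 1; exact Subtype.ext (by simp [h1])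
      · exfalso
        refine hy (mem_normalizer_iff.2 fun w => ?_)
        have hne : y⁻¹ * (u : G) * y ≠ 1 := fun e => h1 (by
          calc (u : G) = y * (y⁻¹ * u * y) * y⁻¹ := by group
            _ = 1 := by rw [e]; group)
        have e1 := hA _ hm hne
        have e2 := hA _ u.2 h1
        constructor <;> intro hw
        · rw [← e2, mem_centralizer_singleton_iff]
          rw [← e1, mem_centralizer_singleton_iff] at hw
          calc y * w * y⁻¹ * u = y * (w * (y⁻¹ * u * y)) * y⁻¹ := by group
            _ = y * ((y⁻¹ * u * y) * w) * y⁻¹ := by rw [hw]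
            _ = _ := by group
        · rw [← e1, mem_centralizer_singleton_iff]
          rw [← e2, mem_centralizer_singleton_iff] at hw
          calc w * (y⁻¹ * u * y) = y⁻¹ * (y * w * y⁻¹ * u) * y := by group
            _ = y⁻¹ * (u * (y * w * y⁻¹)) * y := by rw [hw]
            _ = _ := by group
    · exact extendByZero_not_mem A f hm
  rw [← Finset.sum_filter_add_sum_filter_not Finset.univ (· ∈ normalizer (A : Set G)),
    Finset.sum_eq_zero (s := Finset.univ.filter fun y => ¬ y ∈ normalizer (A : Set G))
      fun y hy => hout y (Finset.mem_filter.1 hy).2, add_zero,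
    Finset.sum_subtype (p := (· ∈ normalizer (A : Set G))) _ (fun y => by simp)
      (fun y => extendByZero A f (y⁻¹ * u * y))]
  refine Fintype.sum_equiv (Equiv.inv _) _ _ fun g => ?_
  have e : (g : G)⁻¹ * u * g = ((normalizerMonoidHom A g⁻¹ u : A) : G) := by
    rw [coe_nmh, Subgroup.coe_inv, inv_inv]
  rw [e, extendByZero_coe]
  rfl

/-- The isometry for differences of characters in different orbits. -/
theorem norm_diff [DecidableEq (IrrCharacter A)] {l l' : IrrCharacter A} (hl : (l : A → ℂ) ≠ 1)
    (hl' : (l' : A → ℂ) ≠ 1) (h1 : ∀ g, cmap A g l ≠ l') (h2 : ∀ g, cmap A g l' ≠ l) :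
    classInner (indFun A ((l : A → ℂ) - l')) (indFun A ((l : A → ℂ) - l')) = 2 := by
  classical
  set f : A → ℂ := (l : A → ℂ) - l'
  have hf1 : f 1 = 0 := by
    simp [f, apply_one_eq_one_of_comm (comm_A A hA)]
  rw [frobenius_reciprocity' _ _ (indFun_isClassFunction A f)]
  have hres : (fun u : A => indFun A f u) = (Nat.card A : ℂ)⁻¹ •
      ∑ g : normalizer (A : Set G), ((cmap A g l : A → ℂ) - (cmap A g l' : A → ℂ)) := by
    funext u
    rw [ind_apply A hA hf1, Pi.smul_apply, Finset.sum_apply, smul_eq_mul]
    rfl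
  rw [hres, classInner_smul_left, classInner_sum_left]
  have hterm : ∀ g : normalizer (A : Set G),
      classInner ((cmap A g l : A → ℂ) - (cmap A g l' : A → ℂ)) f =
        (if cmap A g l = l then 1 else 0) + (if cmap A g l' = l' then (1 : ℂ) else 0) := by
    intro g
    have key : ∀ c d : IrrCharacter A, classInner (c : A → ℂ) (d : A → ℂ) =
        if c = d then 1 else 0 := by
      intro c d
      split_ifs with h
      · rw [h]; exact classInner_irr_self d.2
      · exact classInner_irr_of_ne c.2 d.2 fun e => h (Subtype.ext e)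
    simp only [f, classInner_sub_left, classInner_sub_right, key, h1 g, h2 g, if_false]
    ring
  rw [Finset.sum_congr rfl fun g _ => hterm g, Finset.sum_add_distrib, Finset.sum_boole,
    Finset.sum_boole, card_stab A hA hl, card_stab A hA hl']
  have : (Nat.card A : ℂ) ≠ 0 := Nat.cast_ne_zero.2 Nat.card_pos.ne'
  field_simp
  ring

end

/-- Two units among squares adding up to two: the other entries vanish. -/
theorem eq_zero_of_sum_sq {ι : Type*} [Fintype ι] (c : ι → ℤ) (hs : ∑ i, c i ^ 2 = 2) {i j : ι}
    (hij : i ≠ j) (hi : c i ≠ 0) (hj : c j ≠ 0) {k : ι} (hki : k ≠ i) (hkj : k ≠ j) : c k = 0 := by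
  classical
  have h : ∑ l ∈ ({i, j, k} : Finset ι), c l ^ 2 ≤ ∑ l, c l ^ 2 :=
    Finset.sum_le_sum_of_subset_of_nonneg (Finset.subset_univ _) fun l _ _ => sq_nonneg _
  rw [Finset.sum_insert (by simp [hij, hki.symm]), Finset.sum_insert (by simp [hkj.symm]),
    Finset.sum_singleton, hs] at h
  have := sq_pos_of_ne_zero hi
  have := sq_pos_of_ne_zero hj
  by_contra hk
  have := sq_pos_of_ne_zero hk
  omega

theorem isolated_of_cc_factor [IsSimpleGroup G] (hG : ¬ IsMulCommutative G) (A : Subgroup G)
    (hA : ∀ u ∈ A, u ≠ 1 → cent u = A) {x : G} (hx : x ≠ 1)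
    (hcard : Nat.card A = (cent x).index) (hco : (Nat.card A).Coprime (Nat.card (cent x)))
    {g : G} (hg : g * x * g⁻¹ ∈ cent x) : g * x * g⁻¹ = x := by
  classical
  haveI := Fintype.ofFinite A
  haveI := Fintype.ofFinite (normalizer (A : Set G))
  haveI := Fintype.ofFinite (IrrCharacter G)
  haveI := Fintype.ofFinite (IrrCharacter A)
  set C := cent x with hC
  set θ : G → ℂ := fun y => (Nat.card (MulAction.fixedBy (G ⧸ C) y) : ℂ) with hθ
  have hθc : IsCharacter G θ := isCharacter_fixedPoints (G ⧸ C)
  have hθ1 : θ 1 = (Nat.card A : ℂ) := by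
    have : MulAction.fixedBy (G ⧸ C) (1 : G) = Set.univ := MulAction.fixedBy_one_eq_univ (G ⧸ C) G
    simp only [hθ, this, Nat.card_univ]
    rw [hcard]; rfl
  have hθA : ∀ u : A, u ≠ 1 → θ u = 0 := by
    intro u hu
    simp only [hθ, Nat.cast_eq_zero, Nat.card_eq_zero]
    left
    refine ⟨fun ⟨q, hq⟩ => ?_⟩
    obtain ⟨y, rfl⟩ := QuotientGroup.mk_surjective q
    have hq' : y⁻¹ * (u : G) * y ∈ C := by
      have := QuotientGroup.eq.1 (hq : (u : G) • (y : G ⧸ C) = y).symm
      simpa [mul_assoc] using this
    have ho : orderOf (y⁻¹ * (u : G) * y) = orderOf (u : G) := by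
      simpa using orderOf_injective (MulAut.conj y⁻¹).toMonoidHom (MulEquiv.injective _) (u : G)
    have h1 : orderOf (u : G) ∣ Nat.card A := by
      rw [orderOf_coe]; exact orderOf_dvd_natCard u
    have h2 : orderOf (u : G) ∣ Nat.card C := ho ▸ Subgroup.orderOf_dvd_natCard C hq'
    exact hu (Subtype.ext (orderOf_eq_one_iff.1 (Nat.eq_one_of_dvd_coprimes hco h1 h2)))
  obtain ⟨n, hn, hn'⟩ := IsCharacter.decompose hθc
  have hm : ∀ (φ : IrrCharacter G) (l : IrrCharacter A), ∃ m : ℕ,
      classInner (fun u : A => (φ : G → ℂ) u) (l : A → ℂ) = m := fun φ l =>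
    IsCharacter.classInner_nat (IsCharacter.restrict (IsIrrCharacter.isCharacter φ.2) A)
      (IsIrrCharacter.isCharacter l.2)
  choose m hm using hm
  -- each linear character of `A` occurs once
  have hsum : ∀ l : IrrCharacter A, ∑ φ, n φ * m φ l = 1 := by
    intro l
    have h1 : classInner (fun u : A => θ u) (l : A → ℂ) = 1 := by
      rw [classInner, Finset.sum_eq_single 1 (fun u _ hu => by rw [hθA u hu, zero_mul])
        (fun h => absurd (Finset.mem_univ _) h), OneMemClass.coe_one, hθ1,
        apply_one_eq_one_of_comm (comm_A A hA), map_one, mul_one,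
        inv_mul_cancel₀ (Nat.cast_ne_zero.2 Nat.card_pos.ne')]
    have h2 : (fun u : A => θ u) = ∑ φ, (n φ : ℂ) • (fun u : A => (φ : G → ℂ) u) := by
      funext u
      have := congrFun hn (u : G)
      simpa using this
    rw [h2, classInner_sum_left] at h1
    simp only [classInner_smul_left, hm] at h1
    exact_mod_cast h1
  have huniq : ∀ l φ, n φ ≠ 0 → m φ l ≠ 0 → n φ = 1 ∧ m φ l = 1 ∧ ∀ ψ, ψ ≠ φ → n ψ * m ψ l = 0 := by
    intro l φ h1 h2
    have h := hsum l
    rw [← Finset.add_sum_erase _ _ (Finset.mem_univ φ)] at h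
    have hpos : 0 < n φ * m φ l := Nat.pos_of_ne_zero (mul_ne_zero h1 h2)
    have hone : n φ * m φ l = 1 := by omega
    have hzero : ∑ ψ ∈ Finset.univ.erase φ, n ψ * m ψ l = 0 := by omega
    exact ⟨(mul_eq_one.1 hone).1, (mul_eq_one.1 hone).2, fun ψ hψ =>
      Finset.sum_eq_zero_iff.1 hzero ψ (Finset.mem_erase.2 ⟨hψ, Finset.mem_univ _⟩)⟩
  let φ₀ : IrrCharacter G := ⟨1, isIrrCharacter_one⟩
  let l₀ : IrrCharacter A := ⟨1, isIrrCharacter_one⟩
  have hn0 : n φ₀ = 1 := by
    have h := hn' φ₀
    have h1 : classInner θ (1 : G → ℂ) = 1 := by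
      rw [classInner_fixedPoints_one]
      haveI : Subsingleton (MulAction.orbitRel.Quotient G (G ⧸ C)) :=
        (MulAction.pretransitive_iff_subsingleton_quotient G (G ⧸ C)).1 inferInstance
      haveI : Nonempty (MulAction.orbitRel.Quotient G (G ⧸ C)) := ⟨⟦((1 : G) : G ⧸ C)⟧⟩
      rw [Nat.card_of_subsingleton (⟦((1 : G) : G ⧸ C)⟧ : MulAction.orbitRel.Quotient G (G ⧸ C)),
        Nat.cast_one]
    rw [show (φ₀ : G → ℂ) = 1 from rfl, h1] at h
    exact_mod_cast h.symm
  have hm0 : m φ₀ l₀ = 1 := by
    have h := hm φ₀ l₀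
    have e : (fun u : A => (φ₀ : G → ℂ) u) = (l₀ : A → ℂ) := rfl
    rw [e, classInner_irr_self l₀.2] at h
    exact_mod_cast h.symm
  have hvanish : ∀ φ : IrrCharacter G, φ ≠ φ₀ → n φ ≠ 0 → (φ : G → ℂ) x = 0 := by
    intro φ hφ hnφ
    have hl0 : m φ l₀ = 0 := by
      by_contra h
      have := (huniq l₀ φ₀ (by omega) (by omega)).2.2 φ hφ
      exact (mul_ne_zero hnφ h) this
    set S : Finset (IrrCharacter A) := Finset.univ.filter fun l => m φ l ≠ 0 with hS
    have hSne : ∀ l ∈ S, (l : A → ℂ) ≠ 1 := fun l hl h => by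
      rw [hS, Finset.mem_filter] at hl
      exact hl.2 (by rw [show l = l₀ from Subtype.ext h]; exact hl0)
    have hdeg : (φ : G → ℂ) 1 = (S.card : ℕ) := by
      have h := congrFun (classFunction_eq_sum (f := fun u : A => (φ : G → ℂ) u)
        (IsCharacter.isClassFunction (IsCharacter.restrict (IsIrrCharacter.isCharacter φ.2) A))) 1
      simp only [hm, Finset.sum_apply, Pi.smul_apply, smul_eq_mul,
        apply_one_eq_one_of_comm (comm_A A hA), mul_one, OneMemClass.coe_one] at h
      rw [h, ← Nat.cast_sum, Nat.cast_inj, hS, Finset.card_filter]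
      refine Finset.sum_congr rfl fun l _ => ?_
      by_cases hl : m φ l = 0
      · simp [hl]
      · simp [(huniq l φ hnφ hl).2.1]
    have hinv : ∀ (g : normalizer (A : Set G)) (l : IrrCharacter A), m φ (cmap A g l) = m φ l := by
      intro g l
      have h1 := hm φ (cmap A g l)
      have h2 := classInner_comp_equiv (normalizerMonoidHom A g) (fun u : A => (φ : G → ℂ) u)
        (l : A → ℂ)
      rw [hm φ l] at h2
      have e : (fun u : A => (φ : G → ℂ) u) =
          fun u : A => (φ : G → ℂ) (normalizerMonoidHom A g u : A) := by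
        funext u
        rw [coe_nmh]
        exact ((IsIrrCharacter.isClassFunction φ.2) u g).symm
      rw [e] at h1
      exact_mod_cast h1.symm.trans h2
    have hcop : S.card.Coprime C.index := by
      rw [← hcard]
      by_cases hall : ∀ l : IrrCharacter A, l ≠ l₀ → l ∈ S
      · have hA1 : S.card + 1 = Nat.card A := by
          have : S = Finset.univ.erase l₀ := by
            ext l
            refine ⟨fun hl => Finset.mem_erase.2 ⟨fun e => hSne l hl (by rw [e]), Finset.mem_univ _⟩,
              fun hl => hall l (Finset.mem_erase.1 hl).1⟩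
          rw [this, Finset.card_erase_add_one (Finset.mem_univ _), Finset.card_univ,
            ← Nat.card_eq_fintype_card, card_irr_eq_card_conjClasses,
            card_conjClasses_of_comm (comm_A A hA)]
        rw [← hA1]
        exact (Nat.coprime_self_add_right).2 (Nat.coprime_one_right _)
      · push Not at hall
        obtain ⟨μ, hμ0, hμ⟩ := hall
        have hμ1 : (μ : A → ℂ) ≠ 1 := fun e => hμ0 (Subtype.ext e)
        have hmμ : m φ μ = 0 := by
          simpa [hS] using hμ
        obtain ⟨ψ, -, hψ⟩ : ∃ ψ ∈ (Finset.univ : Finset (IrrCharacter G)), n ψ * m ψ μ ≠ 0 :=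
          Finset.exists_ne_zero_of_sum_ne_zero (by rw [hsum μ]; exact one_ne_zero)
        have hψφ : ψ ≠ φ := by rintro rfl; rw [hmμ, mul_zero] at hψ; exact hψ rfl
        -- coefficients of the induced difference
        have hcoef : ∀ (l l' : IrrCharacter A) (χ : IrrCharacter G),
            classInner (indFun A ((l : A → ℂ) - l')) (χ : G → ℂ) =
              (((m χ l : ℤ) - (m χ l' : ℤ) : ℤ) : ℂ) := by
          intro l l' χ
          rw [frobenius_reciprocity _ _ (IsIrrCharacter.isClassFunction χ.2), classInner_sub_left,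
            ← classInner_conj_symm (fun u : A => (χ : G → ℂ) u),
            ← classInner_conj_symm (fun u : A => (χ : G → ℂ) u) (l' : A → ℂ), hm, hm]
          simp
        have hnorm : ∀ l l' : IrrCharacter A, (l : A → ℂ) ≠ 1 → (l' : A → ℂ) ≠ 1 →
            (∀ g, cmap A g l ≠ l') → (∀ g, cmap A g l' ≠ l) →
            ∑ χ : IrrCharacter G, ((m χ l : ℤ) - (m χ l' : ℤ)) ^ 2 = 2 := by
          intro l l' h1 h2 h3 h4
          have h := norm_diff A hA h1 h2 h3 h4
          rw [classInner_eq_sum (indFun_isClassFunction A _)] at h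
          simp only [hcoef, map_intCast] at h
          have : ((∑ χ : IrrCharacter G, ((m χ l : ℤ) - (m χ l' : ℤ)) ^ 2 : ℤ) : ℂ) = ((2 : ℤ) : ℂ) := by
            push_cast
            push_cast at h
            simpa [sq] using h
          exact_mod_cast this
        have hother : ∀ l ∈ S, ∀ χ : IrrCharacter G,
            (m χ l : ℤ) - (m χ μ : ℤ) = if χ = φ then 1 else if χ = ψ then -1 else 0 := by
          intro l hl χ
          have hlS := hl
          rw [hS, Finset.mem_filter] at hlS
          have hd1 : ∀ g, cmap A g l ≠ μ := fun g e => hlS.2 (by rw [← hinv g l, e, hmμ])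
          have hd2 : ∀ g, cmap A g μ ≠ l := fun g e => hlS.2 (by rw [← e, hinv g μ, hmμ])
          have hs := hnorm l μ (hSne l hl) hμ1 hd1 hd2
          have hφ1 := (huniq l φ hnφ hlS.2).2.1
          have hψ1 := (huniq μ ψ (left_ne_zero_of_mul hψ) (right_ne_zero_of_mul hψ)).2.1
          have hψl : m ψ l = 0 := by
            have := (huniq l φ hnφ hlS.2).2.2 ψ hψφ
            exact (mul_eq_zero.1 this).resolve_left (left_ne_zero_of_mul hψ)
          split_ifs with e1 e2
          · subst e1; rw [hφ1, hmμ]; norm_num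
          · subst e2; rw [hψl, hψ1]; norm_num
          · exact eq_zero_of_sum_sq (fun χ => (m χ l : ℤ) - (m χ μ : ℤ)) hs hψφ.symm
              (by simp [hφ1, hmμ]) (by simp [hψl, hψ1]) e1 e2
        rcases S.eq_empty_or_nonempty with hSe | ⟨l, hl⟩
        · exfalso
          rw [hSe] at hdeg
          exact IsIrrCharacter.apply_one_ne_zero φ.2 (by simpa using hdeg)
        have horb : ∀ l' ∈ S, ∃ g, cmap A g l = l' := by
          intro l' hl'
          by_contra hno
          push Not at hno
          have hno' : ∀ g, cmap A g l' ≠ l := fun g e => hno g⁻¹ (by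
            rw [← e, ← cmap_mul, mul_inv_cancel, cmap_one])
          have hs := hnorm l l' (hSne l hl) (hSne l' hl') hno hno'
          rw [Finset.sum_eq_zero fun χ _ => ?_] at hs
          · norm_num at hs
          · have e1 := hother l hl χ
            have e2 := hother l' hl' χ
            rw [show (m χ l : ℤ) - (m χ l' : ℤ) = 0 by omega]
            norm_num
        have hmaps : ∀ g ∈ (Finset.univ : Finset (normalizer (A : Set G))), cmap A g l ∈ S := by
          intro g _
          rw [hS, Finset.mem_filter] at hl ⊢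
          exact ⟨Finset.mem_univ _, by rw [hinv]; exact hl.2⟩
        have hcount := Finset.card_eq_sum_card_fiberwise hmaps
        have hfib : ∀ l' ∈ S,
            (Finset.univ.filter fun g : normalizer (A : Set G) => cmap A g l = l').card =
              Nat.card A := by
          intro l' hl'
          obtain ⟨g₀, rfl⟩ := horb l' hl'
          rw [← card_stab A hA (hSne l hl)]
          refine Finset.card_equiv (Equiv.mulRight g₀⁻¹) fun g => ?_
          simp only [Finset.mem_filter, Finset.mem_univ, true_and, Equiv.coe_mulRight, cmap_mul]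
          constructor
          · intro e
            rw [e, ← cmap_mul, mul_inv_cancel, cmap_one]
          · intro e
            have := congrArg (cmap A g₀) e
            rwa [← cmap_mul, inv_mul_cancel, cmap_one] at this
        rw [Finset.sum_congr rfl hfib, Finset.sum_const, smul_eq_mul, Finset.card_univ,
          ← Nat.card_eq_fintype_card] at hcount
        have hdiv : S.card * Nat.card A ∣ Nat.card C * Nat.card A := by
          rw [← hcount, hcard, card_mul_index]
          exact card_subgroup_dvd_card _
        exact (hco.coprime_dvd_right ((Nat.mul_dvd_mul_iff_right Nat.card_pos).1 hdiv)).symm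
    exact vanish hG φ.2 (fun e => hφ (Subtype.ext e)) hx hdeg hcop
  have hθx : θ x = 1 := by
    rw [congrFun hn x, Finset.sum_apply, Finset.sum_eq_single φ₀]
    · simp [hn0, φ₀]
    · intro φ _ hφ
      by_cases h : n φ = 0
      · simp [h]
      · simp [hvanish φ hφ h]
    · exact fun h => absurd (Finset.mem_univ _) h
  have hfix : Nat.card (MulAction.fixedBy (G ⧸ C) x) = 1 := by
    simp only [hθ] at hθx
    exact_mod_cast hθx
  have hs : Subsingleton (MulAction.fixedBy (G ⧸ C) x) := (Nat.card_eq_one_iff_unique.1 hfix).1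
  have h1 : ((1 : G) : G ⧸ C) ∈ MulAction.fixedBy (G ⧸ C) x := by
    show x • ((1 : G) : G ⧸ C) = ((1 : G) : G ⧸ C)
    rw [MulAction.Quotient.smul_coe, smul_eq_mul, mul_one]
    refine QuotientGroup.eq.2 ?_
    rw [mul_one]
    exact C.inv_mem (self_mem x)
  have h2 : ((g⁻¹ : G) : G ⧸ C) ∈ MulAction.fixedBy (G ⧸ C) x := by
    show x • ((g⁻¹ : G) : G ⧸ C) = ((g⁻¹ : G) : G ⧸ C)
    rw [MulAction.Quotient.smul_coe, smul_eq_mul]
    refine QuotientGroup.eq.2 ?_
    simpa [mul_assoc] using C.inv_mem hg
  have e : ((1 : G) : G ⧸ C) = ((g⁻¹ : G) : G ⧸ C) := congrArg Subtype.val (hs.elim ⟨_, h1⟩ ⟨_, h2⟩)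
  have hgC : g⁻¹ ∈ C := by simpa using QuotientGroup.eq.1 e
  have hgc : g * x = x * g := mem_centralizer_singleton_iff.1 (by simpa using C.inv_mem hgC)
  rw [hgc, mul_inv_cancel_right]

end Cfsg.Agent.ConjRankThree
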