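import Cfsg.Agent.Lib.ConjRankThree.Basic
import Cfsg.Agent.Lib.ConjRankThree.Chars
import Cfsg.Agent.Lib.NormEven.Tools
import Cfsg.Agent.EqLemmas

/-
Simple groups with class sizes `a ∣ c` and `b` prime to `a`: the centraliser of a class-`b` element is
an abelian Hall subgroup of order `a`, and involution centralisers are abelian.

* `strict`, `not_commute`
* `chain_abelian`
-/

set_option autoImplicit false
set_option linter.style.haveILetI false
set_option linter.unusedSectionVars false

open Subgroup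

namespace Cfsg.Agent.ConjRankThree

open Cfsg.Agent.ClassGraph (sz cls stab mem_stab)

variable {G : Type*} [Group G] [Finite G]

local notation "cent" x:max => Subgroup.centralizer ({x} : Set _)

theorem index_inf {g h : G} (hco : (sz g).Coprime (sz h)) :
    (cent g ⊓ cent h : Subgroup G).index = sz g * sz h :=
  le_antisymm index_inf_le (Nat.le_of_dvd (Nat.pos_of_ne_zero index_ne_zero_of_finite)
    (hco.mul_dvd_of_dvd_of_dvd (index_dvd_of_le inf_le_left) (index_dvd_of_le inf_le_right)))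

theorem exists_central_involution (heven : 2 ∣ Nat.card G) :
    ∃ (t : G) (S : Sylow 2 G), orderOf t = 2 ∧ t ∈ (S : Subgroup G) ∧ (S : Subgroup G) ≤ cent t := by
  haveI : Fact (Nat.Prime 2) := ⟨Nat.prime_two⟩
  obtain ⟨S⟩ := (inferInstance : Nonempty (Sylow 2 G))
  haveI : Nontrivial (S : Subgroup G) := (nontrivial_iff_ne_bot _).2 (S.ne_bot_of_dvd_card heven)
  obtain ⟨z0, hz0⟩ := (nontrivial_iff_exists_ne_one _).1 S.isPGroup'.center_nontrivial
  obtain ⟨i, hi⟩ := (IsPGroup.iff_orderOf.1 S.isPGroup') z0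
  obtain ⟨j, rfl⟩ := Nat.exists_eq_add_one_of_ne_zero
    (fun e : i = 0 => hz0.2 (orderOf_eq_one_iff.1 (by rw [hi, e, pow_zero])))
  refine ⟨((z0 : (S : Subgroup G)) : G) ^ 2 ^ j, S, ?_, pow_mem z0.2 _, fun y hy => cent_le_pow _ _
    (mem_cent.2 (congrArg Subtype.val (mem_center_iff.1 hz0.1 ⟨y, hy⟩)))⟩
  rw [orderOf_pow_of_dvd (by positivity) (by rw [orderOf_coe, hi, pow_succ]; exact dvd_mul_right _ _),
    orderOf_coe, hi, pow_succ, Nat.mul_div_cancel_left _ (pow_pos two_pos j)]

variable [IsSimpleGroup G]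

theorem strict (hG : ¬ IsMulCommutative G) {g h : G} (hg : g ≠ 1) (hh : h ≠ 1)
    (hco : (sz g).Coprime (sz h)) : sz h < sz (g * h) := by
  by_contra hle
  push Not at hle
  have ht := TwoLargest.trans_mem hco hle
  rcases (inferInstance : (stab h).Normal).eq_bot_or_eq_top with hb | htop
  · refine sz_ne_one hG hg (TwoLargest.sz_eq_one_iff.2 (mem_center_iff.2 fun a => ?_))
    have h1 := ht a
    rw [hb, mem_bot, inv_mul_eq_one] at h1
    exact mul_inv_eq_iff_eq_mul.1 h1.symm
  · have h1 : h⁻¹ * h ∈ cls h := mem_stab.1 (htop ▸ mem_top h⁻¹) h (TwoLargest.mem_cls_self h)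
    rw [inv_mul_cancel] at h1
    obtain ⟨y, hy⟩ := h1
    exact hh (by simpa using hy)

theorem strict' (hG : ¬ IsMulCommutative G) {g h : G} (hg : g ≠ 1) (hh : h ≠ 1)
    (hco : (sz g).Coprime (sz h)) : sz g < sz (g * h) := by
  have e : h * g = h * (g * h) * h⁻¹ := by group
  rw [← sz_conj h (g * h), ← e]
  exact strict hG hh hg hco.symm

theorem not_commute (hG : ¬ IsMulCommutative G) {g h : G} (hg : g ≠ 1) (hh : h ≠ 1)
    (hco : (sz g).Coprime (sz h)) : ¬ Commute g h := by
  intro hc
  have hall : Group.conjugatesOfSet ({h} : Set G) ⊆ (cent g : Subgroup G) := by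
    intro y hy
    obtain ⟨h', hh', hy'⟩ := Group.mem_conjugatesOfSet_iff.1 hy
    rw [Set.mem_singleton_iff] at hh'
    subst hh'
    obtain ⟨d, rfl⟩ := isConj_iff.1 hy'
    obtain ⟨k, hk, e, he, rfl⟩ := Solvable.exists_mul_of_coprime_index
      (H := cent h') (K := cent g) hco.symm d
    refine SetLike.mem_coe.2 (mem_cent.2 ?_)
    have e1 : e * h' = h' * e := mem_cent.1 he
    have e2 : Commute k g := mem_cent.1 hk
    have e3 : k * e * h' * (k * e)⁻¹ = k * h' * k⁻¹ := by
      rw [mul_assoc k e h', e1]; group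
    rw [e3]
    exact ((e2.mul_left hc.symm).mul_left e2.inv_left).eq
  have hle : normalClosure ({h} : Set G) ≤ cent g := (closure_le _).2 hall
  rcases (normalClosure_normal (s := ({h} : Set G))).eq_bot_or_eq_top with hb | htop
  · exact hh (mem_bot.1 (hb ▸ subset_normalClosure (Set.mem_singleton h)))
  · refine sz_ne_one hG hg (TwoLargest.sz_eq_one_iff.2 (mem_center_iff.2 fun a => ?_))
    exact mem_cent.1 (hle (htop ▸ mem_top a))

/-- **The chain case.** -/
theorem chain_abelian (hG : ¬ IsMulCommutative G) (heven : 2 ∣ Nat.card G) {a b c : ℕ}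
    (hthree : ∀ g : G, g ≠ 1 → sz g = a ∨ sz g = b ∨ sz g = c) {x y : G} (hx : sz x = a)
    (hx1 : x ≠ 1) (hy : sz y = b) (hy1 : y ≠ 1) (hco : a.Coprime b) (hac : a ∣ c) {v : G}
    (hv : orderOf v = 2) : IsMulCommutative (cent v : Subgroup G) := by
  classical
  haveI : Fact (Nat.Prime 2) := ⟨Nat.prime_two⟩
  have ha1 : a ≠ 1 := hx ▸ sz_ne_one hG hx1
  have hb1 : b ≠ 1 := hy ▸ sz_ne_one hG hy1
  have hco' : (sz x).Coprime (sz y) := by rw [hx, hy]; exact hco
  -- the product class has size `c`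
  have hxy : x * y ≠ 1 := fun e => not_commute hG hx1 hy1 hco' (by
    have : x = y⁻¹ := eq_inv_of_mul_eq_one_left e
    rw [this]; exact (Commute.refl y).inv_left)
  have hlt1 := strict hG hx1 hy1 hco'
  have hlt2 := strict' hG hx1 hy1 hco'
  have hc : sz (x * y) = c := by
    rcases hthree _ hxy with h | h | h
    · omega
    · omega
    · exact h
  have hbc' : b < c := by omega
  have hinf : cent x ⊓ cent y ≤ cent (x * y) := fun w hw => mem_cent.2
    ((show Commute w x from mem_cent.1 hw.1).mul_right (mem_cent.1 hw.2)).eq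
  have hcab : c ∣ a * b := by
    have h := index_dvd_of_le hinf
    rw [index_inf hco', hx, hy] at h
    exact hc ▸ h
  have hbc : ¬ b ∣ c := by
    intro hbc
    have heq : c = a * b := Nat.dvd_antisymm hcab (hco.mul_dvd_of_dvd_of_dvd hac hbc)
    have e : cent x ⊓ cent y = cent (x * y) := by
      refine Subgroup.eq_of_le_of_card_ge hinf (le_of_eq ?_)
      have e1 := (cent x ⊓ cent y : Subgroup G).card_mul_index
      have e2 := (cent (x * y) : Subgroup G).card_mul_index
      rw [index_inf hco', hx, hy, ← heq] at e1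
      rw [show (cent (x * y) : Subgroup G).index = c from hc] at e2
      exact Nat.eq_of_mul_eq_mul_right (by omega) (e2.trans e1.symm)
    have hm : x * y ∈ cent x := (inf_le_left : cent x ⊓ cent y ≤ cent x) (e.ge (self_mem (x * y)))
    refine not_commute hG hx1 hy1 hco' ?_
    have hm' : x * y * x = x * (x * y) := mem_cent.1 hm
    rw [mul_assoc] at hm'
    exact (mul_left_cancel hm').symm
  have hba : ¬ b ∣ a := fun h => hb1 (Nat.eq_one_of_dvd_coprimes hco h dvd_rfl)
  have hab : ¬ a ∣ b := fun h => ha1 (Nat.eq_one_of_dvd_coprimes hco dvd_rfl h)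
  -- class-`b` centralisers are maximal and minimal
  have hminb : ∀ {k h : G}, sz h = b → k ≠ 1 → cent k ≤ cent h → cent k = cent h := by
    intro k h hh hk hle
    have hd : b ∣ sz k := hh ▸ sz_dvd_of_le hle
    refine cent_eq_of_sz hle ?_
    rcases hthree k hk with h' | h' | h'
    · exact absurd (h' ▸ hd) hba
    · rw [h', hh]
    · exact absurd (h' ▸ hd) hbc
  have hmaxb : ∀ {k h : G}, sz h = b → k ≠ 1 → cent h ≤ cent k → cent h = cent k := by
    intro k h hh hk hle
    have hd : sz k ∣ b := hh ▸ sz_dvd_of_le hle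
    refine cent_eq_of_sz hle ?_
    rcases hthree k hk with h' | h' | h'
    · exact absurd (h' ▸ hd) hab
    · rw [h', hh]
    · rw [h'] at hd
      have := Nat.le_of_dvd (by rw [← hy]; exact ClassGraph.sz_pos y) hd
      omega
  -- a prime-order element with the centraliser of `y`
  obtain ⟨r, hr, hrd⟩ := Nat.exists_prime_and_dvd (fun e : orderOf y = 1 => hy1 (orderOf_eq_one_iff.1 e))
  haveI := Fact.mk hr
  set y₁ := y ^ (orderOf y / r) with hy₁def
  have hy₁o : orderOf y₁ = r := by
    rw [hy₁def, orderOf_pow_of_dvd (Nat.div_ne_zero_iff.2 ⟨hr.ne_zero, Nat.le_of_dvd (orderOf_pos y) hrd⟩)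
      (Nat.div_dvd_of_dvd hrd), Nat.div_div_self hrd (orderOf_pos y).ne']
  have hy₁1 : y₁ ≠ 1 := fun e => hr.ne_one (by rw [← hy₁o, e, orderOf_one])
  have hy₁ : cent y = cent y₁ := hmaxb hy hy₁1 (cent_le_pow y _)
  -- a second prime in `A`
  obtain ⟨q, hq, hqr, hqa⟩ := exists_other_prime hG hx1 hr
  haveI := Fact.mk hq
  rw [hx] at hqa
  set A : Subgroup G := cent y with hAdef
  have hqA : q ∣ Nat.card A := by
    have h1 : q ∣ sz y * Nat.card A := by
      rw [hAdef, sz_mul_card]; exact hqa.trans (hx ▸ sz_dvd_card x)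
    refine (hq.dvd_mul.1 h1).resolve_left fun h => ?_
    exact hq.ne_one (Nat.eq_one_of_dvd_coprimes hco hqa (hy ▸ h))
  obtain ⟨w, hw⟩ := exists_prime_orderOf_dvd_card' q hqA
  have hwo : orderOf (w : G) = q := by rw [orderOf_coe, hw]
  have hw1 : (w : G) ≠ 1 := fun e => hq.ne_one (by rw [← hwo, e, orderOf_one])
  have hszy₁ : sz y₁ = b := by rw [← hy, sz_eq_of_cent hy₁]
  have hprod : ∀ {u k : G}, sz u = b → u ≠ 1 → k ≠ 1 → Commute k u → (orderOf k).Coprime (orderOf u) →
      cent u = cent k := by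
    intro u k hu hu1 hk1 hku hco1
    obtain ⟨h1, h2⟩ := TwoLargest.cent_mul_coprime hku hco1
    have hne : k * u ≠ 1 := fun e => hk1 (by
      have e' : k = u⁻¹ := eq_inv_of_mul_eq_one_left e
      rw [e', orderOf_inv, Nat.coprime_self, orderOf_eq_one_iff] at hco1
      rw [e', hco1, inv_one])
    exact hmaxb hu hk1 ((hminb hu hne h2).ge.trans h1)
  have hyw : cent y₁ = cent (w : G) := hprod hszy₁ hy₁1 hw1 (mem_cent.1 (hy₁ ▸ w.2 : (w : G) ∈ cent y₁))
    (by rw [hwo, hy₁o]; exact (Nat.coprime_primes hq hr).2 hqr)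
  have hszw : sz (w : G) = b := by rw [← hszy₁, sz_eq_of_cent hyw]
  have hAcomm : ∀ k ∈ A, A ≤ cent k := by
    refine comm_of_two_primes hr hq hqr.symm (u := y₁) (w := (w : G)) ?_ ?_ hy₁.le (hy₁.le.trans hyw.le)
    · intro k hk _ hco1 hk1
      exact hy₁.le.trans (hprod hszy₁ hy₁1 hk1 hk (by rwa [hy₁o])).le
    · intro k hk _ hco1 hk1
      exact (hy₁.le.trans hyw.le).trans (hprod hszw hw1 hk1 hk (by rwa [hwo])).le
  have hA : ∀ u ∈ A, u ≠ 1 → cent u = A := fun u hu hu1 => (hmaxb hy hu1 (hAcomm u hu)).symm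
  have hszA : ∀ u ∈ A, u ≠ 1 → sz u = b := fun u hu hu1 => by
    rw [← hy]; exact sz_eq_of_cent (hA u hu hu1)
  -- `A` and a class-`a` centraliser are complementary
  have hsplit : ∀ {t : G}, sz t = a → Nat.card A = a ∧ Nat.card (cent t : Subgroup G) = b := by
    intro t ht
    have ht1 : t ≠ 1 := fun e => ha1 (by
      rw [← ht, e]; exact TwoLargest.sz_eq_one_iff.2 (one_mem _))
    have hbot : cent t ⊓ A = ⊥ := by
      rw [eq_bot_iff_forall]
      intro k hk
      by_contra hk1
      have htA : t ∈ A := hA k hk.2 hk1 ▸ mem_cent_comm.1 hk.1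
      exact hba ((hszA t htA ht1).symm.trans ht ▸ dvd_rfl)
    have hidx : (cent t ⊓ A : Subgroup G).index = a * b := by
      rw [hAdef, index_inf (by rw [ht, hy]; exact hco), ht, hy]
    rw [hbot, index_bot] at hidx
    have e1 := sz_mul_card t
    have e2 := sz_mul_card y
    rw [ht, hidx] at e1
    rw [hy, hidx, mul_comm a b] at e2
    exact ⟨Nat.eq_of_mul_eq_mul_left (hy ▸ ClassGraph.sz_pos y) e2,
      Nat.eq_of_mul_eq_mul_left (Nat.pos_of_ne_zero fun e => ha1 (by
        have := ht ▸ ClassGraph.sz_pos t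
        omega)) e1⟩
  obtain ⟨hcardA, hcardC⟩ := hsplit hx
  have hn : Nat.card G = a * b := by
    rw [← hcardC, ← hx]; exact (sz_mul_card x).symm
  rw [hn] at heven
  rcases Nat.prime_two.dvd_mul.1 heven with h2 | h2
  · -- `A` contains every involution up to conjugacy
    have hAidx : ¬ 2 ∣ A.index := by
      intro h
      have : A.index = b := hy
      exact absurd (Nat.eq_one_of_dvd_coprimes hco h2 (this ▸ h)) (by decide)
    obtain ⟨g, hg⟩ := conj_into Nat.prime_two hAidx ⟨1, by rw [pow_one, hv]⟩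
    have hgv : g * v * g⁻¹ ≠ 1 := fun e => by
      have : v = 1 := by simpa using e
      rw [this, orderOf_one] at hv; omega
    refine ⟨⟨fun p q => Subtype.ext ?_⟩⟩
    have hmem : ∀ w ∈ cent v, g * w * g⁻¹ ∈ A := by
      intro w hw
      rw [← hA _ hg hgv, mem_cent]
      calc g * w * g⁻¹ * (g * v * g⁻¹) = g * (w * v) * g⁻¹ := by group
        _ = g * (v * w) * g⁻¹ := by rw [mem_cent.1 hw]
        _ = g * v * g⁻¹ * (g * w * g⁻¹) := by group
    have e := mem_cent.1 (hAcomm _ (hmem q q.2) (hmem p p.2))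
    have e' : g * (p * q : G) * g⁻¹ = g * (q * p : G) * g⁻¹ := by
      calc g * (p * q : G) * g⁻¹ = g * p * g⁻¹ * (g * q * g⁻¹) := by group
        _ = g * q * g⁻¹ * (g * p * g⁻¹) := e
        _ = _ := by group
    simpa using e'
  · exfalso
    obtain ⟨t, S, ht, htS, hSt⟩ := exists_central_involution (G := G) (hn ▸ heven)
    have ht1 : t ≠ 1 := fun e => by rw [e, orderOf_one] at ht; omega
    have hodd : ¬ 2 ∣ sz t := fun h => S.not_dvd_index (h.trans (index_dvd_of_le hSt))
    have hta : sz t = a := by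
      rcases hthree t ht1 with h | h | h
      · exact h
      · exact absurd (h ▸ h2) hodd
      · exfalso
        rw [h] at hodd
        refine cover_false hG Nat.prime_two hq (hn ▸ heven) (hqa.trans (hx ▸ sz_dvd_card x)) fun g hg => ?_
        rcases hthree g hg with h' | h' | h'
        · exact Or.inl (h' ▸ fun h2a => hodd (h2a.trans hac))
        · exact Or.inr (h' ▸ fun hqb => hq.ne_one (Nat.eq_one_of_dvd_coprimes hco hqa hqb))
        · exact Or.inl (h' ▸ hodd)
    obtain ⟨-, hCt⟩ := hsplit hta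
    haveI := Fintype.ofFinite G
    refine NormEven.isolated_contra hG S ht htS fun g hg => ?_
    exact isolated_of_cc_factor hG A hA ht1 (by rw [hcardA]; exact hta.symm)
      (by rw [hcardA, hCt]; exact hco) (mem_cent.2 (mem_cent.1 (hSt hg)))

end Cfsg.Agent.ConjRankThree
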