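import Cfsg.Agent.Lib.ConjRankThree.Basic
import Cfsg.Agent.EqLemmas

/-
If class sizes of non-identity elements never properly divide one another, involution centralisers
of a simple group are abelian.

* `abelian_or_two_group`, `flat_abelian`
-/

set_option autoImplicit false
set_option linter.style.haveILetI false
set_option linter.unusedSectionVars false

open Subgroup

namespace Cfsg.Agent.ConjRankThree

open Cfsg.Agent.ClassGraph (sz)

variable {G : Type*} [Group G] [Finite G]

local notation "cent" x:max => Subgroup.centralizer ({x} : Set _)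

/-- No class size properly divides another. -/
def IsFlat (G : Type*) [Group G] : Prop :=
  ∀ g h : G, g ≠ 1 → h ≠ 1 → sz g ∣ sz h → sz g = sz h

theorem IsFlat.eq_of_le (hf : IsFlat G) {g h : G} (hg : g ≠ 1) (hh : h ≠ 1) (hle : cent g ≤ cent h) :
    cent g = cent h :=
  cent_eq_of_sz hle (hf h g hh hg (sz_dvd_of_le hle)).symm

/-- Commuting elements of coprime orders have the same centraliser. -/
theorem IsFlat.eq_of_coprime (hf : IsFlat G) {g h : G} (hg : g ≠ 1) (hh : h ≠ 1) (hc : Commute g h)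
    (hco : (orderOf g).Coprime (orderOf h)) : cent g = cent h := by
  obtain ⟨h1, h2⟩ := TwoLargest.cent_mul_coprime hc hco
  have hne : g * h ≠ 1 := fun e => hg (by
    have e' : g = h⁻¹ := eq_inv_of_mul_eq_one_left e
    rw [e', orderOf_inv, Nat.coprime_self, orderOf_eq_one_iff] at hco
    rw [e', hco, inv_one])
  rw [← hf.eq_of_le hne hg h1, hf.eq_of_le hne hh h2]

/-- The centraliser of an involution is a `2`-group or abelian. -/
theorem IsFlat.abelian_or_two_group (hf : IsFlat G) {u : G} (hu : orderOf u = 2) :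
    (∀ k ∈ cent u, cent u ≤ cent k) ∨ IsPGroup 2 (cent u : Subgroup G) := by
  haveI : Fact (Nat.Prime 2) := ⟨Nat.prime_two⟩
  have hu1 : u ≠ 1 := fun e => by rw [e, orderOf_one] at hu; omega
  by_cases h2 : IsPGroup 2 (cent u : Subgroup G)
  · exact Or.inr h2
  left
  obtain ⟨q, hq, hqd, hq2⟩ : ∃ q, q.Prime ∧ q ∣ Nat.card (cent u : Subgroup G) ∧ q ≠ 2 := by
    by_contra hcon
    push Not at hcon
    refine h2 (IsPGroup.of_card (n := (Nat.card (cent u : Subgroup G)).primeFactorsList.length) ?_)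
    exact Nat.eq_prime_pow_of_unique_prime_dvd Nat.card_pos.ne' fun {d} hd hdd => hcon d hd hdd
  haveI := Fact.mk hq
  obtain ⟨w, hw⟩ := exists_prime_orderOf_dvd_card' q hqd
  have hwo : orderOf (w : G) = q := by rw [orderOf_coe, hw]
  have hw1 : (w : G) ≠ 1 := fun e => by rw [e, orderOf_one] at hwo; exact hq.ne_one hwo.symm
  have huw : cent u = cent (w : G) := hf.eq_of_coprime hu1 hw1 (mem_cent.1 w.2).symm
    (by rw [hu, hwo]; exact (Nat.coprime_primes Nat.prime_two hq).2 (Ne.symm hq2))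
  refine comm_of_two_primes Nat.prime_two hq (Ne.symm hq2) (u := u) (w := (w : G)) ?_ ?_ le_rfl huw.le
  · intro k hk _ hco hk1
    exact (hf.eq_of_coprime hk1 hu1 hk (by rwa [hu])).ge
  · intro k hk _ hco hk1
    exact huw.le.trans (hf.eq_of_coprime hk1 hw1 hk (by rwa [hwo])).ge


/-- **The flat case.** -/
theorem flat_abelian (heven : 2 ∣ Nat.card G) (hf : IsFlat G) {v : G}
    (hv : orderOf v = 2) : IsMulCommutative (cent v : Subgroup G) := by
  haveI : Fact (Nat.Prime 2) := ⟨Nat.prime_two⟩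
  have of_le : ∀ {u : G}, (∀ k ∈ cent u, cent u ≤ cent k) → IsMulCommutative (cent u : Subgroup G) :=
    fun h => ⟨⟨fun a b => Subtype.ext (mem_cent.1 (h b b.2 a.2))⟩⟩
  by_cases hall : ∀ u : G, orderOf u = 2 → ∀ k ∈ cent u, cent u ≤ cent k
  · exact of_le (hall v hv)
  push Not at hall
  obtain ⟨u, hu, k0, hk0, hk0'⟩ := hall
  have hu2 : IsPGroup 2 (cent u : Subgroup G) :=
    (hf.abelian_or_two_group hu).resolve_left fun h => hk0' (h k0 hk0)
  obtain ⟨S, hS⟩ := hu2.exists_le_sylow
  -- a central involution of `S`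
  haveI : Nontrivial (S : Subgroup G) := (nontrivial_iff_ne_bot _).2 (S.ne_bot_of_dvd_card heven)
  obtain ⟨z0, hz0⟩ := (nontrivial_iff_exists_ne_one _).1 S.isPGroup'.center_nontrivial
  obtain ⟨i, hi⟩ := (IsPGroup.iff_orderOf.1 S.isPGroup') z0
  have hi0 : i ≠ 0 := fun e => hz0.2 (orderOf_eq_one_iff.1 (by rw [hi, e, pow_zero]))
  obtain ⟨j, rfl⟩ := Nat.exists_eq_add_one_of_ne_zero hi0
  set t : G := ((z0 : (S : Subgroup G)) : G) ^ 2 ^ j with htdef
  have ht : orderOf t = 2 := by
    rw [htdef, orderOf_pow_of_dvd (by positivity) (by rw [orderOf_coe, hi, pow_succ]; exact dvd_mul_right _ _),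
      orderOf_coe, hi, pow_succ, Nat.mul_div_cancel_left _ (pow_pos two_pos j)]
  have hSt : (S : Subgroup G) ≤ cent t := fun y hy => cent_le_pow _ _ (mem_cent.2
    (congrArg Subtype.val (mem_center_iff.1 hz0.1 ⟨y, hy⟩)))
  -- every involution centraliser which is a `2`-group has the order of `S`
  have hodd : ¬ 2 ∣ sz t := fun h => S.not_dvd_index (h.trans (index_dvd_of_le hSt))
  have hne : ∀ {y : G}, orderOf y = 2 → y ≠ 1 := fun hy e => by rw [e, orderOf_one] at hy; omega
  have hszu : ∀ {y : G}, orderOf y = 2 → IsPGroup 2 (cent y : Subgroup G) →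
      sz y = sz t := by
    intro y hy hy2
    refine (hf t y (hne ht) (hne hy) ?_).symm
    obtain ⟨e, he⟩ := IsPGroup.iff_card.1 hy2
    have hd : sz t ∣ sz y * 2 ^ e := by rw [← he, sz_mul_card]; exact sz_dvd_card t
    exact (Nat.Coprime.pow_right e ((Nat.prime_two.coprime_iff_not_dvd.2 hodd).symm)).dvd_of_dvd_mul_right hd
  have hsz : sz t = (S : Subgroup G).index := by
    refine Nat.dvd_antisymm (index_dvd_of_le hSt) ?_
    rw [← hszu hu hu2]
    exact index_dvd_of_le hS
  have hCt : cent t = (S : Subgroup G) := by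
    refine le_antisymm ?_ hSt
    rw [← relIndex_eq_one]
    have h1 := relIndex_mul_index hSt
    have h2 : (cent t).index = (S : Subgroup G).index := hsz
    rw [h2] at h1
    exact Nat.eq_of_mul_eq_mul_right (Nat.pos_of_ne_zero index_ne_zero_of_finite)
      (h1.trans (one_mul _).symm)
  have hCt2 : IsPGroup 2 (cent t : Subgroup G) := hCt ▸ S.isPGroup'
  -- all involution centralisers are `2`-groups of that order
  have hall2 : ∀ {y : G}, orderOf y = 2 → sz y = sz t := by
    intro y hy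
    obtain ⟨g, hg⟩ := conj_into Nat.prime_two S.not_dvd_index ⟨1, by rw [pow_one, hy]⟩
    set y' := g * y * g⁻¹
    have hy' : orderOf y' = 2 := by
      simpa [y', hy] using orderOf_injective (MulAut.conj g).toMonoidHom (MulEquiv.injective _) y
    rw [← sz_conj g y]
    show sz y' = sz t
    rcases hf.abelian_or_two_group hy' with h | h
    · have htc : t ∈ cent y' := mem_cent_comm.1 (hSt hg)
      exact sz_eq_of_cent (hf.eq_of_le (hne hy') (hne ht) (h t htc))
    · exact hszu hy' h
  have htwo : ∀ {y : G}, (∃ m, orderOf y = 2 ^ m) → y ≠ 1 → sz y = sz t := by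
    rintro y ⟨m, hm⟩ hy1
    obtain ⟨m', rfl⟩ := Nat.exists_eq_add_one_of_ne_zero (fun e : m = 0 => hy1 (orderOf_eq_one_iff.1
      (by rw [hm, e, pow_zero])))
    have hy2 : orderOf (y ^ 2 ^ m') = 2 := by
      rw [orderOf_pow_of_dvd (by positivity) (by rw [hm, pow_succ]; exact dvd_mul_right _ _), hm,
        pow_succ, Nat.mul_div_cancel_left _ (pow_pos two_pos m')]
    rw [← hall2 hy2]
    exact (hf _ y (hne hy2) hy1 (sz_dvd_of_le (cent_le_pow y _))).symm
  -- elements of `S` with different centralisers are involutions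
  have hS2 : ∀ {y : G}, y ∈ (S : Subgroup G) → ∃ m, orderOf y = 2 ^ m := fun {y} hy => by
    obtain ⟨m, hm⟩ := (IsPGroup.iff_orderOf.1 S.isPGroup') ⟨y, hy⟩
    exact ⟨m, by rw [← hm, Subgroup.orderOf_mk]⟩
  have hpair : ∀ {z y : G}, z ∈ (S : Subgroup G) → y ∈ (S : Subgroup G) → z ≠ 1 → y ≠ 1 →
      Commute z y → cent z ≠ cent y → orderOf z ≤ orderOf y := by
    intro z y hz hy hz1 hy1 hc hne'
    by_contra hlt
    push Not at hlt
    have hm : (z * y) ^ orderOf y = z ^ orderOf y := by rw [hc.mul_pow, pow_orderOf_eq_one, mul_one]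
    have hzm : z ^ orderOf y ≠ 1 := pow_ne_one_of_lt_orderOf (orderOf_pos y).ne' hlt
    have hzy1 : z * y ≠ 1 := fun e => hzm (by rw [← hm, e, one_pow])
    have e1 : cent (z * y) = cent z := by
      rw [cent_eq_of_sz (cent_le_pow (z * y) (orderOf y)) ?_, hm,
        ← cent_eq_of_sz (cent_le_pow z (orderOf y)) ?_]
      · rw [htwo (hS2 hz) hz1, htwo (hS2 (pow_mem hz _)) hzm]
      · rw [htwo (hS2 (mul_mem hz hy)) hzy1, hm, htwo (hS2 (pow_mem hz _)) hzm]
    refine hne' (cent_eq_of_sz (fun g hg => mem_cent.2 ?_) ?_)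
    · have h1 : Commute g z := mem_cent.1 hg
      have h2 : Commute g (z * y) := mem_cent.1 (e1.ge hg)
      have h3 := h1.inv_right.mul_right h2
      rwa [inv_mul_cancel_left] at h3
    · rw [htwo (hS2 hz) hz1, htwo (hS2 hy) hy1]
  have hsq : ∀ {z y : G}, z ∈ (S : Subgroup G) → y ∈ (S : Subgroup G) → z ≠ 1 → y ≠ 1 →
      Commute z y → cent z ≠ cent y → z * z = 1 := by
    intro z y hz hy hz1 hy1 hc hne'
    by_contra hzz
    have e : cent z = cent (z * z) := by
      refine cent_eq_of_sz (fun g hg => mem_cent.2 ?_) ?_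
      · exact ((show Commute g z from mem_cent.1 hg).mul_right (mem_cent.1 hg)).eq
      · rw [htwo (hS2 hz) hz1, htwo (hS2 (mul_mem hz hz)) hzz]
    have h1 := hpair hy hz hy1 hz1 hc.symm hne'.symm
    have h2 := hpair (mul_mem hz hz) hy hzz hy1 (hc.mul_left hc) (e ▸ hne')
    have h3 := hpair hy (mul_mem hz hz) hy1 hzz (hc.mul_left hc).symm (e ▸ hne').symm
    have h4 := hpair hz hy hz1 hy1 hc hne'
    obtain ⟨m, hm⟩ := hS2 hz
    have hpow : orderOf (z * z) = orderOf z / 2 := by
      rw [← sq, orderOf_pow' z two_ne_zero]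
      have : 2 ∣ orderOf z := by
        rcases Nat.eq_zero_or_pos m with h | h
        · exact absurd (orderOf_eq_one_iff.1 (by rw [hm, h, pow_zero])) hz1
        · rw [hm]; exact dvd_pow_self 2 h.ne'
      rw [Nat.gcd_eq_right this]
    have := orderOf_pos z
    omega
  -- `S` is abelian
  have hScomm : IsMulCommutative (cent t : Subgroup G) := by
    by_contra hna
    obtain ⟨s, hs, hsne⟩ : ∃ s ∈ cent t, ¬ cent t ≤ cent s := by
      by_contra hcon
      push Not at hcon
      exact hna (of_le hcon)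
    have hs1 : s ≠ 1 := fun e => hsne fun g _ => by rw [e]; exact mem_cent.2 (by simp)
    refine hna ⟨⟨fun a b => ?_⟩⟩
    have hall1 : ∀ w : (cent t : Subgroup G), w * w = 1 := by
      intro w
      by_cases hw1 : (w : G) = 1
      · exact Subtype.ext (by simp [hw1])
      refine Subtype.ext ?_
      show (w : G) * w = 1
      have hwS : (w : G) ∈ (S : Subgroup G) := hCt ▸ w.2
      by_cases hwt : cent (w : G) = cent t
      · exact hsq hwS (hCt ▸ hs) hw1 hs1 (mem_cent.1 (hwt.ge hs)).symm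
          (fun e => hsne (by rw [← hwt, e]))
      · exact hsq hwS (hSt.antisymm (hCt.le) ▸ (self_mem t)) hw1 (hne ht) (mem_cent.1 w.2) hwt
    have hinv : ∀ w : (cent t : Subgroup G), w⁻¹ = w := fun w => inv_eq_of_mul_eq_one_right (hall1 w)
    calc a * b = (a * b)⁻¹ := (hinv _).symm
      _ = b * a := by rw [mul_inv_rev, hinv, hinv]
  have hSab : ∀ a ∈ (S : Subgroup G), ∀ b ∈ (S : Subgroup G), Commute a b := fun a ha b hb =>
    congrArg Subtype.val (hScomm.1.1 ⟨a, hSt ha⟩ ⟨b, hSt hb⟩)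
  obtain ⟨g, hg⟩ := conj_into Nat.prime_two S.not_dvd_index ⟨1, by rw [pow_one, hv]⟩
  set v' := g * v * g⁻¹
  have hv' : orderOf v' = 2 := by
    simpa [v', hv] using orderOf_injective (MulAut.conj g).toMonoidHom (MulEquiv.injective _) v
  have hSv : cent t = cent v' := by
    refine cent_eq_of_sz (fun y hy => mem_cent.2 (hSab y (hCt ▸ hy) v' hg)) ?_
    rw [hall2 hv']
  refine ⟨⟨fun a b => Subtype.ext ?_⟩⟩
  have hmem : ∀ y ∈ cent v, g * y * g⁻¹ ∈ (S : Subgroup G) := by
    intro y hy
    rw [← hCt, hSv, mem_cent]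
    have e := mem_cent.1 hy
    show g * y * g⁻¹ * (g * v * g⁻¹) = g * v * g⁻¹ * (g * y * g⁻¹)
    calc g * y * g⁻¹ * (g * v * g⁻¹) = g * (y * v) * g⁻¹ := by group
      _ = g * (v * y) * g⁻¹ := by rw [e]
      _ = g * v * g⁻¹ * (g * y * g⁻¹) := by group
  have e := hSab _ (hmem a a.2) _ (hmem b b.2)
  have e' : g * (a * b : G) * g⁻¹ = g * (b * a : G) * g⁻¹ := by
    calc g * (a * b : G) * g⁻¹ = g * a * g⁻¹ * (g * b * g⁻¹) := by group
      _ = g * b * g⁻¹ * (g * a * g⁻¹) := e.eq
      _ = _ := by group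
  simpa using e'

end Cfsg.Agent.ConjRankThree
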