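import Cfsg.Agent.Lib.ConjRankThree.Flat
import Cfsg.Agent.Lib.ConjRankThree.Chain
import Cfsg.Agent.Lib.OddOrderTheorem.Basic
import Cfsg.Agent.Lib.FrobSystem.Main
import Cfsg.Agent.Lib.PSL2.Centralizers
import Cfsg.Agent.Lib.PSL2.Soluble
import Cfsg.Agent.S2202
import Cfsg.Agent.EqLemmas

/-
Simple groups with exactly three sizes of noncentral classes are the groups `PSL₂(2^m)`.

* `abelian_involution_centralizers`, `exists_psl`, `ncard_three_of_psl`
-/

set_option autoImplicit false
set_option linter.style.haveILetI false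
set_option linter.unusedSectionVars false

open Subgroup

namespace Cfsg.Agent.ConjRankThree

open Cfsg.Agent.ClassGraph (sz)

local notation "cent" x:max => Subgroup.centralizer ({x} : Set _)

/-- The set of indices of centralisers of noncentral elements. -/
def indexSet (G : Type*) [Group G] : Set ℕ :=
  {m : ℕ | ∃ x : G, x ∉ center G ∧ m = (cent x : Subgroup G).index}

variable {G : Type*} [Group G] [Finite G] [IsSimpleGroup G]

theorem even_card (hG : ¬ IsMulCommutative G) : 2 ∣ Nat.card G := by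
  by_contra h
  have hs := OddOrderTheorem.solvable (G := G) (Nat.odd_iff.2 (by omega))
  exact hG ⟨⟨IsSimpleGroup.comm_iff_isSolvable.2 hs⟩⟩

theorem abelian_involution_centralizers (hG : ¬ IsMulCommutative G) (h3 : (indexSet G).ncard = 3)
    (v : G) (hv : orderOf v = 2) : IsMulCommutative (cent v : Subgroup G) := by
  classical
  have hmem : ∀ g : G, g ≠ 1 → sz g ∈ indexSet G := fun g hg =>
    ⟨g, by rwa [center_bot hG, mem_bot], rfl⟩
  have heven := even_card hG
  by_cases hflat : IsFlat G
  · exact flat_abelian heven hflat hv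
  obtain ⟨g, h, hg, hh, hd, hne⟩ : ∃ g h : G, g ≠ 1 ∧ h ≠ 1 ∧ sz g ∣ sz h ∧ sz g ≠ sz h := by
    simpa [IsFlat] using hflat
  obtain ⟨p, hp, hpa⟩ := Nat.exists_prime_and_dvd (sz_ne_one hG hg)
  obtain ⟨k, hk, -, hpk⟩ := exists_sz_not_dvd hp (hpa.trans (sz_dvd_card g))
  have hkg : sz k ≠ sz g := fun e => hpk (e ▸ hpa)
  have hkh : sz k ≠ sz h := fun e => hpk (e ▸ hpa.trans hd)
  have hfin : (indexSet G).Finite := Set.finite_of_ncard_ne_zero (by omega)
  have hset : ({sz g, sz k, sz h} : Set ℕ) = indexSet G := by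
    refine Set.eq_of_subset_of_ncard_le ?_ ?_ hfin
    · rintro n (rfl | rfl | rfl)
      exacts [hmem g hg, hmem k hk, hmem h hh]
    · rw [h3, Set.ncard_eq_three.2 ⟨sz g, sz k, sz h, hkg.symm, hne, hkh, rfl⟩]
  have hthree : ∀ y : G, y ≠ 1 → sz y = sz g ∨ sz y = sz k ∨ sz y = sz h := fun y hy => by
    simpa using hset.ge (hmem y hy)
  have hco : (sz g).Coprime (sz k) := by
    refine Nat.coprime_of_dvd fun q hq hqg hqk => ?_
    obtain ⟨z, hz, -, hqz⟩ := exists_sz_not_dvd hq (hqg.trans (sz_dvd_card g))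
    rcases hthree z hz with e | e | e <;> rw [e] at hqz
    exacts [hqz hqg, hqz hqk, hqz (hqg.trans hd)]
  exact chain_abelian hG heven hthree rfl hg rfl hk hco hd hv

theorem exists_psl (hG : ¬ IsMulCommutative G) (h3 : (indexSet G).ncard = 3) :
    ∃ (m : ℕ) (F : Type) (_ : Field F) (_ : Fintype F), 2 ≤ m ∧ Fintype.card F = 2 ^ m ∧
      Nonempty (G ≃* Matrix.ProjectiveSpecialLinearGroup (Fin 2) F) := by
  classical
  haveI : Fact (Nat.Prime 2) := ⟨Nat.prime_two⟩
  have heven := even_card hG
  rcases S2202.result (even_iff_two_dvd.2 heven) (abelian_involution_centralizers hG h3) with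
    hc | hn | ⟨F, hF, hFt, A, hA, hAf, hchar, -, ⟨e⟩⟩
  · obtain ⟨P⟩ := (inferInstance : Nonempty (Sylow 2 G))
    haveI := hc P
    refine absurd ?_ (SmallOrders.normalizer_not_le_centralizer hG heven P)
    exact (hc P).normalizer_le_centralizer ((Nat.minFac_eq_two_iff _).2 heven)
  · obtain ⟨P⟩ := (inferInstance : Nonempty (Sylow 2 G))
    exact absurd (normalizer_eq_top_iff.2 (hn P)) (SmallOrders.normalizer_sylow_ne_top hG heven P)
  · letI := hF; letI := hFt; letI := hA; haveI := hAf; haveI := hchar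
    -- the abelian factor is trivial
    let π : G →* A := (MonoidHom.snd (Matrix.SpecialLinearGroup (Fin 2) F) A).comp e.toMonoidHom
    have hsur : Function.Surjective π := fun a => ⟨e.symm (1, a), by simp [π]⟩
    haveI : Subsingleton A := by
      rcases π.normal_ker.eq_bot_or_eq_top with hb | ht
      · exfalso
        exact hG ⟨⟨fun x y => (MonoidHom.ker_eq_bot_iff π).1 hb (by rw [map_mul, map_mul, mul_comm])⟩⟩
      · refine ⟨fun x y => ?_⟩
        obtain ⟨x', rfl⟩ := hsur x
        obtain ⟨y', rfl⟩ := hsur y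
        rw [MonoidHom.mem_ker.1 (ht ▸ mem_top x'), MonoidHom.mem_ker.1 (ht ▸ mem_top y')]
    obtain ⟨ε⟩ := FrobSystem.sl_equiv_psl F
    let i : G →* Matrix.ProjectiveSpecialLinearGroup (Fin 2) F :=
      ε.toMonoidHom.comp ((MonoidHom.fst (Matrix.SpecialLinearGroup (Fin 2) F) A).comp e.toMonoidHom)
    have hbij : Function.Bijective i := by
      refine ⟨fun x y hxy => ?_, fun z => ⟨e.symm (ε.symm z, 1), by simp [i]⟩⟩
      have h1 : (e x).1 = (e y).1 := by simpa [i] using hxy
      exact e.injective (Prod.ext h1 (Subsingleton.elim _ _))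
    obtain ⟨m, -, hm⟩ := FiniteField.card F 2
    refine ⟨m, F, hF, hFt, ?_, hm, ⟨MulEquiv.ofBijective i hbij⟩⟩
    by_contra hm2
    have hm1 : (m : ℕ) = 1 := by have := m.pos; omega
    have hcard : Nat.card G = 6 := by
      rw [Nat.card_congr (MulEquiv.ofBijective i hbij).toEquiv]
      have hq : Nat.card F = 2 := by rw [Nat.card_eq_fintype_card, hm, hm1, pow_one]
      have h := PSL2.card_psl_mul (F := F)
      rw [hq] at h
      simpa using h
    haveI : Fact (Nat.Prime 3) := ⟨Nat.prime_three⟩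
    obtain ⟨Q⟩ := (inferInstance : Nonempty (Sylow 3 G))
    have hQ : (Q : Subgroup G).index = 2 :=
      SmallOrders.index_sylow (e := 1) (m := 2) (by rw [hcard]; norm_num) (by norm_num) Q
    have hQtop : (Q : Subgroup G) ≠ ⊤ := fun h => by rw [h, index_top] at hQ; omega
    have h12 := SmallOrders.two_mul_card_dvd_factorial_index hG hQtop
    rw [hQ, hcard] at h12
    exact absurd (Nat.le_of_dvd (by decide) h12) (by decide)

omit [Finite G] [IsSimpleGroup G] in
theorem ncard_three_of_psl {F : Type} [Field F] [Fintype F] {m : ℕ} (hm : 2 ≤ m)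
    (hF : Fintype.card F = 2 ^ m)
    (e : G ≃* Matrix.ProjectiveSpecialLinearGroup (Fin 2) F) :
    IsSimpleGroup G ∧ ¬ IsMulCommutative G ∧ (indexSet G).ncard = 3 := by
  classical
  have hq : Nat.card F = 2 ^ m := by rw [Nat.card_eq_fintype_card, hF]
  have h4 : 4 ≤ Nat.card F := hq ▸ (pow_le_pow_right₀ (by norm_num) hm : 2 ^ 2 ≤ 2 ^ m)
  haveI := PSL2.isSimpleGroup_psl (L := F) h4
  have hsimp : IsSimpleGroup G := e.isSimpleGroup
  have hnc : ¬ IsMulCommutative G := fun h => PSL2.not_comm_psl (L := F) (by omega) fun a b => by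
    obtain ⟨a', rfl⟩ := e.surjective a
    obtain ⟨b', rfl⟩ := e.surjective b
    rw [← map_mul, ← map_mul, h.1.1 a' b']
  refine ⟨hsimp, hnc, ?_⟩
  have hidx : ∀ x : G, (centralizer ({e x} : Set (PSL2.PSL2 F))).index = (cent x : Subgroup G).index := by
    intro x
    rw [← (cent x : Subgroup G).index_map_equiv e]
    congr 1
    ext y
    constructor
    · intro hy
      refine ⟨e.symm y, mem_centralizer_singleton_iff.2 (e.injective ?_), by simp⟩
      simpa using mem_centralizer_singleton_iff.1 hy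
    · rintro ⟨z, hz, rfl⟩
      refine mem_centralizer_singleton_iff.2 ?_
      have := congrArg e (mem_centralizer_singleton_iff.1 hz)
      simpa using this
  set q := Nat.card F
  have hcl := PSL2.class_sizes_even (F := F) h4 (by rw [show Nat.card F = 2 ^ m from hq]; exact Nat.even_pow.2 ⟨even_two, by omega⟩)
  have hset : indexSet G = ({q * (q - 1), q ^ 2 - 1, q * (q + 1)} : Set ℕ) := by
    have hcen : center G = ⊥ := SmallOrders.center_eq_bot hnc
    ext n
    constructor
    · rintro ⟨x, hx, rfl⟩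
      have h1 : (cent x : Subgroup G).index ∈
          Set.range fun g : PSL2.PSL2 F => (centralizer ({g} : Set (PSL2.PSL2 F))).index :=
        ⟨e x, hidx x⟩
      rw [hcl] at h1
      rcases h1 with h1 | h1
      · exfalso
        rw [index_eq_one, centralizer_eq_top_iff_subset, Set.singleton_subset_iff] at h1
        exact hx h1
      · exact h1
    · intro hn
      have hn' : n ∈ Set.range fun g : PSL2.PSL2 F => (centralizer ({g} : Set (PSL2.PSL2 F))).index := by
        rw [hcl]; exact Or.inr hn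
      obtain ⟨y, hy⟩ := hn'
      obtain ⟨x, rfl⟩ := e.surjective y
      refine ⟨x, fun hx => ?_, by rw [← hidx x]; exact hy.symm⟩
      rw [hcen, mem_bot] at hx
      subst hx
      simp only [map_one] at hy
      rw [PSL2.centralizer_one_index] at hy
      obtain ⟨k, hk⟩ : ∃ k, q = k + 4 := ⟨q - 4, by omega⟩
      have h1 : q * (q - 1) ≠ 1 := fun h => absurd (mul_eq_one.1 h).1 (by omega)
      have h2 : q * (q + 1) ≠ 1 := fun h => absurd (mul_eq_one.1 h).1 (by omega)
      have h3 : q ^ 2 - 1 ≠ 1 := by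
        have : 4 ^ 2 ≤ q ^ 2 := Nat.pow_le_pow_left h4 2
        omega
      rcases hn with rfl | rfl | rfl <;> omega
  rw [hset]
  refine Set.ncard_eq_three.2 ⟨_, _, _, ?_, ?_, ?_, rfl⟩
  all_goals
    obtain ⟨k, hk⟩ : ∃ k, q = k + 4 := ⟨q - 4, by omega⟩
    simp only [hk, show k + 4 - 1 = k + 3 from rfl]
    intro h
    have hh : (k + 4) ^ 2 - 1 = k * k + 8 * k + 15 := by
      have : (k + 4) ^ 2 = k * k + 8 * k + 16 := by ring
      omega
    first
      | nlinarith
      | (simp only [hh] at h; nlinarith)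

end Cfsg.Agent.ConjRankThree
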